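import Groth.Prelude.Def_W4swparbununimodPar
import Mathlib.Analysis.SpecificLimits.Basic
import Mathlib.Analysis.Asymptotics.SpecificAsymptotics
import Mathlib.Algebra.BigOperators.Field
import Mathlib.Analysis.Polynomial.Basic
import Mathlib.Algebra.Polynomial.Degree.Lemmas
import Mathlib.Algebra.Polynomial.Roots

/-!
# Summation by parts for parabolic polynomials; eventual signs of real polynomials
-/

set_option autoImplicit false

open Polynomial Filter Topology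

namespace Groth.Agent.ParHilb12

open W4swparbununimod

theorem sum_parts {R : Type*} [CommRing R] (n : ℕ) (w f : Fin (n + 2) → R) :
    f (Fin.last (n + 1)) * w (Fin.last (n + 1)) + ∑ j : Fin (n + 1), w j.castSucc * (f j.castSucc - f j.succ) =
      w 0 * f 0 + ∑ j : Fin (n + 1), (w j.succ - w j.castSucc) * f j.succ := by
  have h1 := Fin.sum_univ_succ fun i : Fin (n + 2) => w i * f i
  have h2 := Fin.sum_univ_castSucc fun i : Fin (n + 2) => w i * f i
  simp only [mul_sub, sub_mul, Finset.sum_sub_distrib]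
  linear_combination h2.symm.trans h1

theorem sum_dw {R : Type*} [CommRing R] (n : ℕ) (w : Fin (n + 2) → R) :
    ∑ j : Fin (n + 1), (w j.succ - w j.castSucc) = w (Fin.last (n + 1)) - w 0 := by
  have h := sum_parts n w (fun _ => 1)
  simp only [sub_self, mul_zero, Finset.sum_const_zero, mul_one, one_mul, add_zero] at h
  rw [h]; ring

universe v u

variable {𝒞 : Type u} [CategoryTheory.Category.{v} 𝒞] {E : 𝒞} (𝓔 : ParSh.Str E)

theorem wtX_zero : 𝓔.wtX 0 = 𝓔.wt 0 := 𝓔.wtX_castSucc 0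

theorem wt_nonneg (j : Fin (𝓔.l + 1)) : 0 ≤ 𝓔.wt j :=
  le_trans 𝓔.wt_nonneg (𝓔.wt_strictMono.monotone (Fin.zero_le _))

theorem dw_nonneg (j : Fin (𝓔.l + 1)) : 0 ≤ 𝓔.wtX j.succ - 𝓔.wtX j.castSucc := by
  rw [ParSh.Str.wtX_castSucc]
  induction j using Fin.lastCases with
  | last =>
    rw [Fin.succ_last, ParSh.Str.wtX_last]
    linarith [𝓔.wt_lt_one]
  | cast j =>
    rw [Fin.succ_castSucc, ParSh.Str.wtX_castSucc]
    linarith [𝓔.wt_strictMono (Fin.castSucc_lt_succ (i := j))]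

/-- The parabolic polynomial through the pieces, with nonnegative coefficients. -/
theorem parPoly_eq_pieces (PX : Fin (𝓔.l + 2) → ℚ[X]) :
    parPoly 𝓔 PX = C (𝓔.wt 0) * rpoly (PX 0) +
      ∑ j : Fin (𝓔.l + 1), C (𝓔.wtX j.succ - 𝓔.wtX j.castSucc) * rpoly (PX j.succ) := by
  have h := sum_parts 𝓔.l (fun i => C (𝓔.wtX i)) (fun i => rpoly (PX i))
  simp only [ParSh.Str.wtX_castSucc, ParSh.Str.wtX_last, map_one, mul_one, wtX_zero] at h
  simp only [parPoly, ParSh.Str.wtX_castSucc, map_sub]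
  exact h

/-- The parabolic polynomial through the quotients. -/
theorem parPoly_eq_quot (PX H : Fin (𝓔.l + 2) → ℚ[X]) (P : ℚ[X]) (h : ∀ j, PX j + H j = P) (h0 : H 0 = 0) :
    parPoly 𝓔 PX = rpoly P - ∑ j : Fin (𝓔.l + 1), C (𝓔.wtX j.succ - 𝓔.wtX j.castSucc) * rpoly (H j.succ) := by
  rw [parPoly_eq_pieces]
  have hj : ∀ j, PX j = P - H j := fun j => eq_sub_of_add_eq (h j)
  simp only [hj, h0, sub_zero, rpoly, Polynomial.map_sub, mul_sub, Finset.sum_sub_distrib]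
  rw [← Finset.sum_mul, ← map_sum, sum_dw, ParSh.Str.wtX_last, wtX_zero, map_sub, map_one]
  ring

theorem coeff_parPoly (PX H : Fin (𝓔.l + 2) → ℚ[X]) (P : ℚ[X]) (h : ∀ j, PX j + H j = P) (h0 : H 0 = 0) (n : ℕ) :
    (parPoly 𝓔 PX).coeff n =
      (P.coeff n : ℝ) - ∑ j : Fin (𝓔.l + 1), (𝓔.wtX j.succ - 𝓔.wtX j.castSucc) * ((H j.succ).coeff n : ℝ) := by
  rw [parPoly_eq_quot 𝓔 PX H P h h0, coeff_sub, finset_sum_coeff, rpoly, coeff_map]
  refine congrArg₂ (· - ·) rfl (Finset.sum_congr rfl fun j _ => ?_)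
  rw [coeff_C_mul, coeff_map]
  rfl

theorem eval_rpoly (P : ℚ[X]) (m : ℕ) : (rpoly P).eval (m : ℝ) = ((P.eval (m : ℚ) : ℚ) : ℝ) := by
  rw [rpoly, show (m : ℝ) = Rat.castHom ℝ (m : ℚ) by simp, Polynomial.eval_map_apply]
  simp

theorem natDegree_rpoly_le {P : ℚ[X]} {d : ℕ} (h : P.natDegree ≤ d) : (rpoly P).natDegree ≤ d :=
  natDegree_map_le.trans h

theorem natDegree_parPoly_le {PX : Fin (𝓔.l + 2) → ℚ[X]} {d : ℕ} (h : ∀ j, (PX j).natDegree ≤ d) :
    (parPoly 𝓔 PX).natDegree ≤ d := by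
  rw [parPoly_eq_pieces]
  refine (natDegree_add_le _ _).trans (max_le ?_ (natDegree_sum_le_of_forall_le _ _ fun j _ => ?_))
  · exact (natDegree_C_mul_le _ _).trans (natDegree_rpoly_le (h _))
  · exact (natDegree_C_mul_le _ _).trans (natDegree_rpoly_le (h _))

/-- A polynomial of degree at most `d` over the `d`-th power. -/
theorem tendsto_eval_div_pow {p : ℝ[X]} {d : ℕ} (h : p.natDegree ≤ d) :
    Tendsto (fun n : ℕ => p.eval (n : ℝ) / (n : ℝ) ^ d) atTop (𝓝 (p.coeff d)) := by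
  have e : ∀ n : ℕ, p.eval (n : ℝ) / (n : ℝ) ^ d =
      ∑ i ∈ Finset.range (d + 1), p.coeff i * ((n : ℝ) ^ i / (n : ℝ) ^ d) := fun n => by
    rw [eval_eq_sum_range' (Nat.lt_succ_of_le h), Finset.sum_div]
    exact Finset.sum_congr rfl fun i _ => mul_div_assoc _ _ _
  simp only [e]
  have hs : p.coeff d = ∑ i ∈ Finset.range (d + 1), p.coeff i * (if i = d then 1 else 0) := by simp
  rw [hs]
  refine tendsto_finsetSum _ fun i hi => Tendsto.const_mul _ ?_
  rcases eq_or_lt_of_le (Nat.lt_succ_iff.1 (Finset.mem_range.1 hi)) with rfl | hlt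
  · rw [if_pos rfl]
    refine tendsto_const_nhds.congr' ?_
    filter_upwards [eventually_gt_atTop 0] with n hn
    exact (div_self (pow_ne_zero _ (by exact_mod_cast hn.ne'))).symm
  · rw [if_neg hlt.ne]
    exact (tendsto_pow_div_pow_atTop_zero hlt).comp tendsto_natCast_atTop_atTop

theorem coeff_le_of_eventually {p q : ℝ[X]} {d : ℕ} (hp : p.natDegree ≤ d) (hq : q.natDegree ≤ d)
    (h : ∃ M : ℕ, ∀ m : ℕ, M ≤ m → p.eval (m : ℝ) ≤ q.eval (m : ℝ)) : p.coeff d ≤ q.coeff d := by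
  obtain ⟨M, hM⟩ := h
  refine le_of_tendsto_of_tendsto (tendsto_eval_div_pow hp) (tendsto_eval_div_pow hq) ?_
  filter_upwards [eventually_ge_atTop M] with n hn
  exact div_le_div_of_nonneg_right (hM n hn) (pow_nonneg (Nat.cast_nonneg n) _)

theorem eventually_lt_of_coeff {p q : ℝ[X]} {d : ℕ} (hp : p.natDegree ≤ d) (hq : q.natDegree ≤ d)
    (h : p.coeff d < q.coeff d) : ∃ M : ℕ, ∀ m : ℕ, M ≤ m → p.eval (m : ℝ) < q.eval (m : ℝ) := by
  obtain ⟨M, hM⟩ := eventually_atTop.1 (((tendsto_eval_div_pow hq).sub (tendsto_eval_div_pow hp)).eventually_const_lt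
    (sub_pos.2 h))
  refine ⟨max M 1, fun m hm => ?_⟩
  have h1 := hM m (le_of_max_le_left hm)
  have hpos : (0 : ℝ) < (m : ℝ) ^ d := pow_pos (by exact_mod_cast le_of_max_le_right hm) _
  rw [← sub_div] at h1
  have := (div_pos_iff_of_pos_right hpos).1 h1
  linarith

theorem natDegree_sub_le_pred {p q : ℝ[X]} {d : ℕ} (hp : p.natDegree ≤ d) (hq : q.natDegree ≤ d)
    (h : p.coeff d = q.coeff d) : (p - q).natDegree ≤ d - 1 := by
  refine natDegree_le_iff_coeff_eq_zero.2 fun N hN => ?_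
  rw [coeff_sub]
  rcases eq_or_lt_of_le (show d ≤ N by omega) with rfl | hlt
  · rw [h, sub_self]
  · rw [coeff_eq_zero_of_natDegree_lt (hp.trans_lt hlt), coeff_eq_zero_of_natDegree_lt (hq.trans_lt hlt), sub_self]

theorem coeff_pred_le {p q : ℝ[X]} {d : ℕ} (hp : p.natDegree ≤ d) (hq : q.natDegree ≤ d)
    (he : p.coeff d = q.coeff d) (h : ∃ M : ℕ, ∀ m : ℕ, M ≤ m → p.eval (m : ℝ) ≤ q.eval (m : ℝ)) :
    p.coeff (d - 1) ≤ q.coeff (d - 1) := by
  obtain ⟨M, hM⟩ := h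
  have := coeff_le_of_eventually (natDegree_sub_le_pred hp hq he) (q := 0) (by simp)
    ⟨M, fun m hm => by rw [eval_sub, eval_zero]; linarith [hM m hm]⟩
  rw [coeff_sub, coeff_zero] at this
  linarith

theorem eventually_lt_of_coeff_pred {p q : ℝ[X]} {d : ℕ} (hp : p.natDegree ≤ d) (hq : q.natDegree ≤ d)
    (he : p.coeff d = q.coeff d) (h : p.coeff (d - 1) < q.coeff (d - 1)) :
    ∃ M : ℕ, ∀ m : ℕ, M ≤ m → p.eval (m : ℝ) < q.eval (m : ℝ) := by
  obtain ⟨M, hM⟩ := eventually_lt_of_coeff (natDegree_sub_le_pred hp hq he) (q := 0) (by simp)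
    (by rw [coeff_sub, coeff_zero]; linarith)
  exact ⟨M, fun m hm => by have := hM m hm; rw [eval_sub, eval_zero] at this; linarith⟩

end Groth.Agent.ParHilb12
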