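import Groth.Agent.Lib.ParHilb12.Sheaf

/-!
# Induced parabolic structures on submodules
-/

set_option autoImplicit false
set_option linter.style.haveILetI false
set_option backward.isDefEq.respectTransparency false
set_option linter.unusedSectionVars false

universe u

open CategoryTheory CategoryTheory.Limits AlgebraicGeometry TopologicalSpace StabCat

noncomputable section

namespace Groth.Agent.ParHilb12

open Groth.Agent

variable {k : Type u} [Field k] {X : Scheme.{u}} [X.Over (Spec (CommRingCat.of k))]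
  [IsProper (X ↘ Spec (CommRingCat.of k))] {L : X.Modules} (hL : CohB1.IsAmple L)
  {W E : X.Modules} (hE : Coh.IsCoh E) (hW : Coh.IsCoh W) (𝓔 : ParSh.Str E) (ι : W ⟶ E)
  (hcoh : ∀ j, Coh.IsCoh ((𝓔.pieceX j : Subobject E) : X.Modules))

local notation "𝐇" => ShStab28.hilb k X L

theorem pieceX_induced (j : Fin (𝓔.l + 2)) :
    (𝓔.induced ι).pieceX j = (Subobject.pullback ι).obj (𝓔.pieceX j) := by
  induction j using Fin.lastCases with
  | last => exact (𝓔.induced ι).pieceX_last.trans (congrArg _ 𝓔.pieceX_last.symm)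
  | cast j => exact ((𝓔.induced ι).pieceX_castSucc j).trans (congrArg _ (𝓔.pieceX_castSucc j).symm)

theorem wtX_induced (j : Fin (𝓔.l + 2)) : (𝓔.induced ι).wtX j = 𝓔.wtX j := by
  induction j using Fin.lastCases with
  | last => exact (𝓔.induced ι).wtX_last.trans 𝓔.wtX_last.symm
  | cast j => exact ((𝓔.induced ι).wtX_castSucc j).trans (𝓔.wtX_castSucc j).symm

include k hE hW hcoh in
theorem coh_induced (j : Fin (𝓔.l + 2)) :
    Coh.IsCoh (((𝓔.induced ι).pieceX j : Subobject W) : X.Modules) := by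
  rw [pieceX_induced]
  exact isCoh_pullback (k := k) ι hW hE _ (hcoh j)

/-- The quotient of the induced structure inside the quotient. -/
theorem exists_mono_quot (j : Fin (𝓔.l + 2)) :
    ∃ c : cokernel ((𝓔.induced ι).pieceX j).arrow ⟶ cokernel (𝓔.pieceX j).arrow, Mono c := by
  rw [pieceX_induced]
  obtain ⟨c, hc, -⟩ := exists_mono_cokernel_pullback ι (𝓔.pieceX j)
  exact ⟨c, hc⟩

include hL hE hW hcoh in
theorem quot_induced {D : ℕ} {j : Fin (𝓔.l + 2)}
    (hD : (𝐇 (cokernel (𝓔.pieceX j).arrow)).natDegree ≤ D) :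
    (𝐇 (cokernel ((𝓔.induced ι).pieceX j).arrow)).natDegree ≤ D ∧
      0 ≤ (𝐇 (cokernel ((𝓔.induced ι).pieceX j).arrow)).coeff D ∧
      (𝐇 (cokernel ((𝓔.induced ι).pieceX j).arrow)).coeff D ≤ (𝐇 (cokernel (𝓔.pieceX j).arrow)).coeff D := by
  obtain ⟨c, hc⟩ := exists_mono_quot 𝓔 ι j
  exact hilb_sub hL c (ok_cokernel (k := k) _ (coh_induced (k := k) hE hW 𝓔 ι hcoh j) hW)
    (ok_cokernel (k := k) _ (hcoh j) hE) hD

include k hE hW hcoh in
theorem quot_induced_small {d : ℕ} {j : Fin (𝓔.l + 2)}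
    (hs : topologicalKrullDim (CohB1.support (cokernel (𝓔.pieceX j).arrow)) < (d : WithBot ℕ∞)) :
    topologicalKrullDim (CohB1.support (cokernel ((𝓔.induced ι).pieceX j).arrow)) < (d : WithBot ℕ∞) := by
  obtain ⟨c, hc⟩ := exists_mono_quot 𝓔 ι j
  refine lt_of_le_of_lt ?_ hs
  exact Topology.IsInducing.topologicalKrullDim_le
    (Topology.IsEmbedding.inclusion (CohFound.support_subset_of_mono c)).isInducing

theorem pieceX_induced_induced {V : X.Modules} (φ : W ⟶ V) (ι' : V ⟶ E) (h : φ ≫ ι' = ι) (j : Fin (𝓔.l + 2)) :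
    (𝓔.induced ι).pieceX j = (Subobject.pullback φ).obj ((𝓔.induced ι').pieceX j) := by
  rw [pieceX_induced, pieceX_induced, ← h, Subobject.pullback_comp]

include hL hE hW hcoh in
/-- A larger submodule has a larger parabolic polynomial. -/
theorem parPoly_induced_le {V : X.Modules} (hV : Coh.IsCoh V) (φ : W ⟶ V) [Mono φ] (ι' : V ⟶ E) (h : φ ≫ ι' = ι) :
    ∃ M : ℕ, ∀ m : ℕ, M ≤ m →
      (W4swparbununimod.parPoly (𝓔.induced ι) fun j => 𝐇 ((𝓔.induced ι).pieceX j : X.Modules)).eval (m : ℝ) ≤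
      (W4swparbununimod.parPoly (𝓔.induced ι') fun j => 𝐇 ((𝓔.induced ι').pieceX j : X.Modules)).eval (m : ℝ) := by
  have hj : ∀ j : Fin (𝓔.l + 2), ∃ M : ℕ, ∀ m : ℕ, M ≤ m →
      (𝐇 ((𝓔.induced ι).pieceX j : X.Modules)).eval (m : ℚ) ≤ (𝐇 ((𝓔.induced ι').pieceX j : X.Modules)).eval (m : ℚ) :=
    fun j => by
      have e := pieceX_induced_induced 𝓔 ι φ ι' h j
      let a : ((𝓔.induced ι).pieceX j : X.Modules) ⟶ ((𝓔.induced ι').pieceX j : X.Modules) :=
        eqToHom (congrArg (fun A : Subobject W => (A : X.Modules)) e) ≫ Subobject.pullbackπ φ _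
      haveI : Mono (Subobject.pullbackπ φ ((𝓔.induced ι').pieceX j)) :=
        ⟨fun u v huv => (Subobject.isPullback φ _).hom_ext huv ((cancel_mono φ).1 (by
          rw [Category.assoc, Category.assoc, ← (Subobject.isPullback φ _).w, ← Category.assoc, huv,
            Category.assoc]))⟩
      exact eval_hilb_sub hL a (coh_induced (k := k) hE hW 𝓔 ι hcoh j) (coh_induced (k := k) hE hV 𝓔 ι' hcoh j)
  choose M hM using hj
  refine ⟨Finset.univ.sup M, fun m hm => ?_⟩
  have hcast : ∀ j, (W4swparbununimod.rpoly (𝐇 ((𝓔.induced ι).pieceX j : X.Modules))).eval (m : ℝ) ≤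
      (W4swparbununimod.rpoly (𝐇 ((𝓔.induced ι').pieceX j : X.Modules))).eval (m : ℝ) := fun j => by
    rw [eval_rpoly, eval_rpoly]
    exact_mod_cast hM j m ((Finset.le_sup (Finset.mem_univ j)).trans hm)
  rw [parPoly_eq_pieces, parPoly_eq_pieces]
  simp only [Polynomial.eval_add, Polynomial.eval_finsetSum, Polynomial.eval_mul, Polynomial.eval_C]
  refine add_le_add (mul_le_mul_of_nonneg_left (hcast 0) (wt_nonneg 𝓔 0)) (Finset.sum_le_sum fun j _ => ?_)
  simp only [wtX_induced]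
  exact mul_le_mul_of_nonneg_left (hcast _) (dw_nonneg 𝓔 j)

include hL hE hW hcoh in
/-- With semistable quotients, the first modified polynomial is at most the induced one. -/
theorem parPolyOne_le (d : ℕ)
    (hdeg : ∀ j : Fin (𝓔.l + 1), (𝐇 (cokernel (𝓔.pieceX j.succ).arrow)).natDegree ≤ d - 1)
    (hα : ∀ j : Fin (𝓔.l + 1), alpha (d - 1) (𝐇 (cokernel (𝓔.pieceX j.succ).arrow)) ≠ 0)
    (hq : ∀ (j : Fin (𝓔.l + 1)) (F : X.Modules) (i : F ⟶ cokernel (𝓔.pieceX j.succ).arrow), Mono i → Coh.IsCoh F →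
      ¬ IsZero F → ¬ IsIso i → RedLE (d - 1) (𝐇 F) (𝐇 (cokernel (𝓔.pieceX j.succ).arrow))) :
    ∃ M : ℕ, ∀ m : ℕ, M ≤ m →
      (W4swparbununimod.parPolyOne 𝓔 d (𝐇 W) (fun j => 𝐇 (cokernel ((𝓔.induced ι).pieceX j).arrow))
          (fun j => 𝐇 (cokernel (𝓔.pieceX j).arrow))).eval (m : ℝ) ≤
      (W4swparbununimod.parPoly (𝓔.induced ι) fun j => 𝐇 ((𝓔.induced ι).pieceX j : X.Modules)).eval (m : ℝ) := by
  have hj : ∀ j : Fin (𝓔.l + 1), ∃ M : ℕ, ∀ m : ℕ, M ≤ m →
      (𝐇 (cokernel ((𝓔.induced ι).pieceX j.succ).arrow)).eval (m : ℚ) ≤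
        alpha (d - 1) (𝐇 (cokernel ((𝓔.induced ι).pieceX j.succ).arrow)) /
          alpha (d - 1) (𝐇 (cokernel (𝓔.pieceX j.succ).arrow)) *
          (𝐇 (cokernel (𝓔.pieceX j.succ).arrow)).eval (m : ℚ) := fun j => by
    obtain ⟨c, hc⟩ := exists_mono_quot 𝓔 ι j.succ
    have hA := ok_cokernel (k := k) ((𝓔.induced ι).pieceX j.succ).arrow (coh_induced (k := k) hE hW 𝓔 ι hcoh j.succ) hW
    have hB := ok_cokernel (k := k) (𝓔.pieceX j.succ).arrow (hcoh j.succ) hE
    by_cases h0 : IsZero (cokernel ((𝓔.induced ι).pieceX j.succ).arrow)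
    · refine ⟨0, fun m _ => ?_⟩
      rw [show 𝐇 (cokernel ((𝓔.induced ι).pieceX j.succ).arrow) = 0 from (S₀ (k := k) hL).hp_zero h0]
      simp [alpha]
    by_cases h1 : IsIso c
    · refine ⟨0, fun m _ => ?_⟩
      rw [← show 𝐇 (cokernel (𝓔.pieceX j.succ).arrow) = 𝐇 (cokernel ((𝓔.induced ι).pieceX j.succ).arrow) from
        (S₀ (k := k) hL).hp_iso (asIso c) hA, div_self (hα j), one_mul]
    obtain ⟨M, hM⟩ := hq j _ c hc hA h0 h1
    refine ⟨M, fun m hm => ?_⟩
    have hpos : 0 < alpha (d - 1) (𝐇 (cokernel (𝓔.pieceX j.succ).arrow)) :=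
      lt_of_le_of_ne (mul_nonneg (Nat.cast_nonneg _) (coeff_nonneg hL hB (hdeg j))) (hα j).symm
    have := hM m hm
    simp only [Polynomial.eval_smul, smul_eq_mul] at this
    rw [div_mul_eq_mul_div, le_div_iff₀ hpos, mul_comm]
    exact this
  choose M hM using hj
  refine ⟨Finset.univ.sup M, fun m hm => ?_⟩
  rw [parPoly_hilb hL hW (𝓔.induced ι) (coh_induced (k := k) hE hW 𝓔 ι hcoh), W4swparbununimod.parPolyOne]
  simp only [Polynomial.eval_sub, Polynomial.eval_finsetSum, Polynomial.eval_mul, Polynomial.eval_C]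
  refine sub_le_sub_left (Finset.sum_le_sum fun j _ => ?_) _
  simp only [wtX_induced]
  rw [mul_assoc]
  refine mul_le_mul_of_nonneg_left ?_ (dw_nonneg 𝓔 j)
  rw [eval_rpoly, eval_rpoly]
  exact_mod_cast hM j m ((Finset.le_sup (Finset.mem_univ j)).trans hm)

end Groth.Agent.ParHilb12
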