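import Groth.Agent.Lib.ParHilb12.Induced
import Groth.Agent.Lib.ShStab28.Stab

/-!
# Kernel and image of a homomorphism of semistable parabolic modules
-/

set_option autoImplicit false
set_option linter.style.haveILetI false
set_option backward.isDefEq.respectTransparency false
set_option linter.unusedSectionVars false

universe v u

open CategoryTheory CategoryTheory.Limits StabCat Polynomial

noncomputable section

namespace Groth.Agent.ParHilb12

open W4swparbununimod

section Shape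

variable {C : Type u} [Category.{v} C]

/-- A structure with the length and weights of another one. -/
abbrev shape {E F : C} (𝓔 : ParSh.Str E) (pc : Fin (𝓔.l + 1) → Subobject F) (b : Subobject F) (h0 : pc 0 = ⊤)
    (ha : Antitone pc) (hb : ∀ j, b ≤ pc j) : ParSh.Str F where
  l := 𝓔.l
  piece := pc
  bot := b
  wt := 𝓔.wt
  piece_zero := h0
  piece_anti := ha
  bot_le := hb
  wt_strictMono := 𝓔.wt_strictMono
  wt_nonneg := 𝓔.wt_nonneg
  wt_lt_one := 𝓔.wt_lt_one

theorem exists_shape {E F : C} (𝓔 : ParSh.Str E) (𝓕 : ParSh.Str F) (hw : Set.range 𝓕.wt = Set.range 𝓔.wt) :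
    ∃ (pc : Fin (𝓔.l + 1) → Subobject F) (b : Subobject F) (h0 : pc 0 = ⊤) (ha : Antitone pc) (hb : ∀ j, b ≤ pc j),
      𝓕 = (shape 𝓔 pc b h0 ha hb) := by
  rcases 𝓕 with ⟨l', pc', b', wt', h0', ha', hb', hs', hn', hl'⟩
  change Set.range wt' = Set.range 𝓔.wt at hw
  have hl : l' = 𝓔.l := by
    have h : Nat.card (Set.range wt') = Nat.card (Set.range 𝓔.wt) := by rw [hw]
    rw [Nat.card_range_of_injective hs'.injective, Nat.card_range_of_injective 𝓔.wt_strictMono.injective,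
      Nat.card_fin, Nat.card_fin] at h
    omega
  subst hl
  obtain rfl : wt' = 𝓔.wt := (StrictMono.range_inj hs' 𝓔.wt_strictMono).1 hw
  exact ⟨pc', b', h0', ha', hb', rfl⟩

end Shape

section Factors

variable {C : Type u} [Category.{v} C] [HasImages C] [HasBinaryCoproducts C] [HasInitial C] [InitialMonoClass C]

theorem at_wt {E : C} (𝓔 : ParSh.Str E) (j : Fin (𝓔.l + 1)) : 𝓔.at (𝓔.wt j) = 𝓔.piece j :=
  𝓔.at_eq_piece j le_rfl fun _ h => 𝓔.wt_strictMono h

theorem at_one {E : C} (𝓔 : ParSh.Str E) : 𝓔.at 1 = 𝓔.bot :=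
  𝓔.at_eq_bot fun j => (𝓔.wt_strictMono.monotone (Fin.le_last j)).trans_lt 𝓔.wt_lt_one

/-- A parabolic homomorphism between structures of the same shape respects every piece. -/
theorem factors_pieceX {E F : C} (𝓔 : ParSh.Str E) (pc : Fin (𝓔.l + 1) → Subobject F) (b : Subobject F)
    (h0 : pc 0 = ⊤) (ha : Antitone pc) (hb : ∀ j, b ≤ pc j) (f : E ⟶ F)
    (hf : ParSh.IsParHom 𝓔 (shape 𝓔 pc b h0 ha hb) f)
    (j : Fin (𝓔.l + 2)) :
    ((Fin.lastCases b pc j : Subobject F)).Factors ((𝓔.pieceX j).arrow ≫ f) := by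
  induction j using Fin.lastCases with
  | last =>
    have h := hf 1 zero_le_one le_rfl
    rw [at_one, at_one] at h
    rw [𝓔.pieceX_last, Fin.lastCases_last]
    exact h
  | cast j =>
    have h := hf (𝓔.wt j) (wt_nonneg 𝓔 j)
      ((𝓔.wt_strictMono.monotone (Fin.le_last j)).trans 𝓔.wt_lt_one.le)
    rw [at_wt] at h
    rw [𝓔.pieceX_castSucc, Fin.lastCases_castSucc]
    have h2 : (shape 𝓔 pc b h0 ha hb).at (𝓔.wt j) = pc j := at_wt (shape 𝓔 pc b h0 ha hb) j
    rwa [h2] at h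

theorem at_congr {G : C} (𝓔 : ParSh.Str G) (𝓖 : ParSh.Str G) (hl : 𝓖.l = 𝓔.l)
    (hp : ∀ j : Fin (𝓖.l + 1), 𝓖.wt j = 𝓔.wt (j.cast (by rw [hl])) ∧ 𝓖.piece j = 𝓔.piece (j.cast (by rw [hl])))
    (hb : 𝓖.bot = 𝓔.bot) (a : ℝ) : 𝓖.at a = 𝓔.at a := by
  refine le_antisymm (𝓖.at_le (fun j hj => ?_) (hb ▸ 𝓔.bot_le_at a)) (𝓔.at_le (fun j hj => ?_) (hb ▸ 𝓖.bot_le_at a))
  · rw [(hp j).2]
    exact 𝓔.piece_le_at _ ((hp j).1 ▸ hj)
  · have h := hp (j.cast (by rw [hl]))
    simp only [Fin.cast_cast, Fin.cast_eq_self] at h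
    rw [← h.2]
    exact 𝓖.piece_le_at _ (h.1 ▸ hj)

end Factors

section Real

/-- Eventual comparison of values. -/
def EvLE (p q : ℝ[X]) : Prop := ∃ M : ℕ, ∀ m : ℕ, M ≤ m → p.eval (m : ℝ) ≤ q.eval (m : ℝ)

theorem eq_of_eventually {p q : ℝ[X]} (h : ∃ M : ℕ, ∀ m : ℕ, M ≤ m → p.eval (m : ℝ) = q.eval (m : ℝ)) : p = q := by
  obtain ⟨M, hM⟩ := h
  refine Polynomial.eq_of_infinite_eval_eq _ _ (Set.Infinite.mono (s := (Nat.cast : ℕ → ℝ) '' Set.Ici M) ?_
    ((Set.Ici_infinite M).image Nat.cast_injective.injOn))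
  rintro _ ⟨m, hm, rfl⟩
  exact hM m hm

theorem EvLE.antisymm {p q : ℝ[X]} (h : EvLE p q) (h' : EvLE q p) : p = q := by
  obtain ⟨M, hM⟩ := h
  obtain ⟨M', hM'⟩ := h'
  exact eq_of_eventually ⟨max M M', fun m hm =>
    le_antisymm (hM m (le_of_max_le_left hm)) (hM' m (le_of_max_le_right hm))⟩

theorem EvLE.trans {p q r : ℝ[X]} (h : EvLE p q) (h' : EvLE q r) : EvLE p r := by
  obtain ⟨M, hM⟩ := h
  obtain ⟨M', hM'⟩ := h'
  exact ⟨max M M', fun m hm => (hM m (le_of_max_le_left hm)).trans (hM' m (le_of_max_le_right hm))⟩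

theorem EvLE.of_mul_C {p q : ℝ[X]} {c : ℝ} (hc : 0 < c) (h : EvLE (p * C c) (q * C c)) : EvLE p q := by
  obtain ⟨M, hM⟩ := h
  exact ⟨M, fun m hm => le_of_mul_le_mul_right (by simpa using hM m hm) hc⟩

theorem EvLE.mul_C {p q : ℝ[X]} {c : ℝ} (hc : 0 ≤ c) (h : EvLE p q) : EvLE (p * C c) (q * C c) := by
  obtain ⟨M, hM⟩ := h
  exact ⟨M, fun m hm => by simpa using mul_le_mul_of_nonneg_right (hM m hm) hc⟩

variable {C₀ : Type u} [Category.{v} C₀] {E : C₀} (𝓔 : ParSh.Str E)

theorem dw_pos (j : Fin (𝓔.l + 1)) : 0 < 𝓔.wtX j.succ - 𝓔.wtX j.castSucc := by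
  rw [ParSh.Str.wtX_castSucc]
  induction j using Fin.lastCases with
  | last =>
    rw [Fin.succ_last, ParSh.Str.wtX_last]
    linarith [𝓔.wt_lt_one]
  | cast j =>
    rw [Fin.succ_castSucc, ParSh.Str.wtX_castSucc]
    linarith [𝓔.wt_strictMono (Fin.castSucc_lt_succ (i := j))]

theorem parPoly_mono {f g : Fin (𝓔.l + 2) → ℚ[X]} (h : ∀ i, PolyLE (f i) (g i)) :
    EvLE (parPoly 𝓔 f) (parPoly 𝓔 g) := by
  choose M hM using h
  refine ⟨Finset.univ.sup M, fun m hm => ?_⟩
  have hc : ∀ i, (rpoly (f i)).eval (m : ℝ) ≤ (rpoly (g i)).eval (m : ℝ) := fun i => by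
    rw [eval_rpoly, eval_rpoly]
    exact_mod_cast hM i m ((Finset.le_sup (Finset.mem_univ i)).trans hm)
  rw [parPoly_eq_pieces, parPoly_eq_pieces]
  simp only [eval_add, eval_finsetSum, eval_mul, eval_C]
  exact add_le_add (mul_le_mul_of_nonneg_left (hc 0) (wt_nonneg 𝓔 0))
    (Finset.sum_le_sum fun j _ => mul_le_mul_of_nonneg_left (hc _) (dw_nonneg 𝓔 j))

theorem parPoly_rigid (hw0 : 0 < 𝓔.wt 0) {f g : Fin (𝓔.l + 2) → ℚ[X]} (h : ∀ i, PolyLE (f i) (g i))
    (he : parPoly 𝓔 f = parPoly 𝓔 g) : f = g := by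
  choose M hM using h
  have key : ∀ m : ℕ, Finset.univ.sup M ≤ m → ∀ i, (rpoly (f i)).eval (m : ℝ) = (rpoly (g i)).eval (m : ℝ) := by
    intro m hm
    have hc : ∀ i, (rpoly (f i)).eval (m : ℝ) ≤ (rpoly (g i)).eval (m : ℝ) := fun i => by
      rw [eval_rpoly, eval_rpoly]
      exact_mod_cast hM i m ((Finset.le_sup (Finset.mem_univ i)).trans hm)
    have e := congrArg (Polynomial.eval (m : ℝ)) he
    rw [parPoly_eq_pieces, parPoly_eq_pieces] at e
    simp only [eval_add, eval_finsetSum, eval_mul, eval_C] at e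
    have h1 := mul_le_mul_of_nonneg_left (hc 0) hw0.le
    have h2 := fun j (_ : j ∈ Finset.univ) => mul_le_mul_of_nonneg_left (hc (Fin.succ j)) (dw_nonneg 𝓔 j)
    obtain ⟨e0, e1⟩ := (add_eq_add_iff_eq_and_eq h1 (Finset.sum_le_sum h2)).1 e
    intro i
    induction i using Fin.cases with
    | zero => exact mul_left_cancel₀ hw0.ne' e0
    | succ j => exact mul_left_cancel₀ (dw_pos 𝓔 j).ne' ((Finset.sum_eq_sum_iff_of_le h2).1 e1 j (Finset.mem_univ j))
  funext i
  exact Polynomial.map_injective _ (Rat.castHom ℝ).injective (eq_of_eventually ⟨_, fun m hm => key m hm i⟩)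

end Real

section Pieces

open AlgebraicGeometry Groth.Agent

variable {k : Type u} [Field k] {X : Scheme.{u}} [X.Over (Spec (CommRingCat.of k))]
  [IsProper (X ↘ Spec (CommRingCat.of k))] {L : X.Modules} (hL : CohB1.IsAmple L)

local notation "𝐇" => ShStab28.hilb k X L

/-- The kernel of the restriction of a quotient map to a subobject. -/
def kerCompIso {K E V : X.Modules} (j : K ⟶ E) (q : E ⟶ V) [Mono j] (w : j ≫ q = 0)
    (hex : (ShortComplex.mk j q w).Exact) (P : Subobject E) :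
    ((Subobject.pullback j).obj P : X.Modules) ≅ kernel (P.arrow ≫ q) :=
  haveI : Mono (ShortComplex.mk j q w).f := inferInstanceAs (Mono j)
  { hom := kernel.lift _ (Subobject.pullbackπ j P) (by
      rw [← Category.assoc, (Subobject.isPullback j P).w, Category.assoc, w, Limits.comp_zero])
    inv := (Subobject.isPullback j P).lift (kernel.ι (P.arrow ≫ q))
      (hex.lift (kernel.ι (P.arrow ≫ q) ≫ P.arrow)
        (show (kernel.ι (P.arrow ≫ q) ≫ P.arrow) ≫ q = 0 by rw [Category.assoc, kernel.condition]))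
      (hex.lift_f _ _).symm
    hom_inv_id := by
      apply (Subobject.isPullback j P).hom_ext
      · rw [Category.assoc, (Subobject.isPullback j P).lift_fst, kernel.lift_ι, Category.id_comp]
      · rw [← cancel_mono j, Category.assoc, Category.assoc, Category.id_comp,
          ← Category.assoc ((Subobject.isPullback j P).lift _ _ _), (Subobject.isPullback j P).lift_snd]
        exact (congrArg _ (hex.lift_f _ _)).trans
          ((kernel.lift_ι_assoc _ _ _ _).trans (Subobject.isPullback j P).w)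
    inv_hom_id := by
      rw [← cancel_mono (kernel.ι (P.arrow ≫ q)), Category.assoc, kernel.lift_ι,
        (Subobject.isPullback j P).lift_fst, Category.id_comp] }

include hL in
theorem hilb_split {K E V : X.Modules} (j : K ⟶ E) (q : E ⟶ V) [Mono j] (w : j ≫ q = 0)
    (hex : (ShortComplex.mk j q w).Exact) (P : Subobject E) (hP : Coh.IsCoh (P : X.Modules)) (hV : Coh.IsCoh V) :
    Coh.IsCoh ((imageSubobject (P.arrow ≫ q) : Subobject V) : X.Modules) ∧
      𝐇 (P : X.Modules) = 𝐇 ((Subobject.pullback j).obj P : X.Modules) +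
        𝐇 ((imageSubobject (P.arrow ≫ q) : Subobject V) : X.Modules) := by
  have hi : Coh.IsCoh ((imageSubobject (P.arrow ≫ q) : Subobject V) : X.Modules) :=
    CohFound.isCoh_of_iso (Abelian.imageIsoImage _ ≪≫ (imageSubobjectIso _).symm)
      ((S₀ (k := k) hL).ok_image (P.arrow ≫ q) hP hV)
  refine ⟨hi, ?_⟩
  let g := factorThruImageSubobject (P.arrow ≫ q)
  have e : kernel g ≅ kernel (P.arrow ≫ q) :=
    (kernelCompMono g (imageSubobject (P.arrow ≫ q)).arrow).symm ≪≫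
      kernelIsoOfEq (imageSubobject_arrow_comp _)
  have hk := ok_kernel (k := k) g hP hi
  refine ((S₀ (k := k) hL).hp_epi g hP hi).trans (congrArg₂ (· + ·) ?_ rfl)
  exact ((S₀ (k := k) hL).hp_iso (e ≪≫ (kerCompIso j q w hex P).symm) hk).symm

include hL in
theorem polyLE_of_le {G : X.Modules} {A B : Subobject G} (h : A ≤ B) (hA : Coh.IsCoh (A : X.Modules))
    (hB : Coh.IsCoh (B : X.Modules)) : PolyLE (𝐇 (A : X.Modules)) (𝐇 (B : X.Modules)) :=
  eval_hilb_sub hL (Subobject.ofLE A B h) hA hB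

include hL in
theorem eq_of_hilb {G : X.Modules} {A B : Subobject G} (h : A ≤ B) (hA : Coh.IsCoh (A : X.Modules))
    (hB : Coh.IsCoh (B : X.Modules)) (he : 𝐇 (A : X.Modules) = 𝐇 (B : X.Modules)) : A = B := by
  haveI := (S₀ (k := k) hL).isIso_of_hp (Subobject.ofLE A B h) hA hB he
  exact le_antisymm h (Subobject.le_of_comm (inv (Subobject.ofLE A B h)) (by simp))

end Pieces

end Groth.Agent.ParHilb12
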