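import Groth.Agent.Lib.ParHilb12.Alg
import Groth.Agent.Lib.ShStab28.Positive
import Groth.Agent.Lib.Snapper.Divisor
import Groth.Agent.Lib.Snapper.Section
import Groth.Agent.Lib.TensorNat17.Basic
import Groth.Agent.Lib.HilbObs3.HomAdj
import Groth.Agent.Lib.CohFound.DevissageModel

/-!
# Hilbert polynomials of the pieces and quotients of a parabolic structure
-/

set_option autoImplicit false
set_option linter.style.haveILetI false
set_option backward.isDefEq.respectTransparency false
set_option linter.unusedSectionVars false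

universe u

open CategoryTheory CategoryTheory.Limits AlgebraicGeometry TopologicalSpace StabCat

noncomputable section

namespace Groth.Agent.ParHilb12

open Groth.Agent

section Subobjects

variable {C : Type*} [Category C] [Abelian C]

/-- A pulled-back subobject is the kernel of the composite with the quotient map. -/
def pullbackKerIso {W E : C} (ι : W ⟶ E) (P : Subobject E) :
    ((Subobject.pullback ι).obj P : C) ≅ kernel (ι ≫ cokernel.π P.arrow) where
  hom := kernel.lift _ ((Subobject.pullback ι).obj P).arrow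
    (by rw [← Category.assoc, ← (Subobject.isPullback ι P).w, Category.assoc, cokernel.condition, comp_zero])
  inv := (Subobject.isPullback ι P).lift
    ((ShortComplex.exact_cokernel P.arrow).lift (kernel.ι (ι ≫ cokernel.π P.arrow) ≫ ι)
      (show (kernel.ι (ι ≫ cokernel.π P.arrow) ≫ ι) ≫ cokernel.π P.arrow = 0 by
        rw [Category.assoc, kernel.condition]))
    (kernel.ι (ι ≫ cokernel.π P.arrow)) ((ShortComplex.exact_cokernel P.arrow).lift_f _ _)
  hom_inv_id := by
    rw [← cancel_mono ((Subobject.pullback ι).obj P).arrow, Category.assoc,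
      (Subobject.isPullback ι P).lift_snd, kernel.lift_ι, Category.id_comp]
  inv_hom_id := by
    rw [← cancel_mono (kernel.ι (ι ≫ cokernel.π P.arrow)), Category.assoc, kernel.lift_ι,
      (Subobject.isPullback ι P).lift_snd, Category.id_comp]

/-- The quotient by a pulled-back subobject embeds in the quotient. -/
theorem exists_mono_cokernel_pullback {W E : C} (ι : W ⟶ E) (P : Subobject E) :
    ∃ c : cokernel ((Subobject.pullback ι).obj P).arrow ⟶ cokernel P.arrow, Mono c ∧
      (IsIso ι → IsIso c) := by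
  let g := ι ≫ cokernel.π P.arrow
  let e : cokernel ((Subobject.pullback ι).obj P).arrow ≅ Abelian.coimage g :=
    cokernel.mapIso _ _ (pullbackKerIso ι P) (Iso.refl _) (by simp [pullbackKerIso, g])
  refine ⟨e.hom ≫ Abelian.factorThruCoimage g, mono_comp _ _, fun hι => ?_⟩
  haveI : Epi g := epi_comp _ _
  haveI : Epi (Abelian.factorThruCoimage g) := by
    haveI : Epi (Abelian.coimage.π g ≫ Abelian.factorThruCoimage g) := by rw [Abelian.coimage.fac]; infer_instance
    exact epi_of_epi (Abelian.coimage.π g) _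
  haveI := isIso_of_mono_of_epi (Abelian.factorThruCoimage g)
  infer_instance

/-- The quotient by a larger subobject is a quotient. -/
theorem exists_epi_cokernel {E : C} {A B : Subobject E} (h : A ≤ B) :
    ∃ p : cokernel A.arrow ⟶ cokernel B.arrow, Epi p := by
  let p : cokernel A.arrow ⟶ cokernel B.arrow := cokernel.desc _ (cokernel.π B.arrow)
    (by rw [← Subobject.ofLE_arrow h, Category.assoc, cokernel.condition, comp_zero])
  haveI : Epi (cokernel.π A.arrow ≫ p) := by rw [cokernel.π_desc]; infer_instance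
  exact ⟨p, epi_of_epi (cokernel.π A.arrow) p⟩

end Subobjects

variable {k : Type u} [Field k] {X : Scheme.{u}} [X.Over (Spec (CommRingCat.of k))]
  [IsProper (X ↘ Spec (CommRingCat.of k))] {L : X.Modules}

theorem surjective_stalkLin_idealModι (I : X.IdealSheafData) {x : X} (hx : x ∉ (I.support : Set X)) :
    Function.Surjective (CurveCoh17.stalkLin (ClSub.idealModι I) x) := fun a => by
  refine (M1.exact_iff_stalk_eq_zero _).1 (M2.shortExact_idealMod (I := I)).exact x a
    (M1.eq_zero_stalk_push I.subschemeι _ ?_ _)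
  rwa [Scheme.IdealSheafData.range_subschemeι]

theorem support_cokernel_twistSub_subset (I : X.IdealSheafData) (E : X.Modules) :
    CohB1.support (cokernel (ParSh.twistSub I E).arrow) ⊆ (I.support : Set X) := by
  intro x hx
  by_contra hxI
  have h1 : Function.Surjective (CurveCoh17.stalkLin (M2.tensorMap (ClSub.idealModι I) (𝟙 E)) x) :=
    (Snapper.bijective_tensorMap_iff _ E x).2 (LinearMap.rTensor_surjective _ (surjective_stalkLin_idealModι I hxI))
  have h2 : KoszTw.tensorMap (𝟙 E) (ClSub.idealModι I) = M2.tensorMap (𝟙 E) (ClSub.idealModι I) := by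
    rw [← HilbObs3.tensorBi_map]
    unfold KoszTw.tensorMap
    rw [CategoryTheory.Functor.map_id, NatTrans.id_app]
    exact Category.id_comp _
  have e : ParSh.twistMap I E = (M2.tensorComm E (ClSub.idealMod I)).hom ≫ M2.tensorMap (ClSub.idealModι I) (𝟙 E) ≫
      ((M2.tensorComm E (Coh.structureModule X)).symm ≪≫ SecTwist.unitorR E).hom := by
    have hn := M2.tensorComm_natural (𝟙 E) (ClSub.idealModι I)
    rw [← Category.assoc, ← hn, Iso.trans_hom, Iso.symm_hom, Category.assoc, Iso.hom_inv_id_assoc]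
    exact congrArg (· ≫ _) h2
  have h3 : Function.Surjective (CurveCoh17.stalkLin (ParSh.twistMap I E) x) := by
    rw [e, Snapper.surjective_stalkLin_iso_comp, Snapper.surjective_stalkLin_comp_iso]
    exact h1
  apply hx
  refine ⟨fun a b => ?_⟩
  have hz : ∀ a : (cokernel (ParSh.twistSub I E).arrow).presheaf.stalk x, a = 0 := by
    intro a
    obtain ⟨b, rfl⟩ := (M1.epi_iff_stalk (cokernel.π (ParSh.twistSub I E).arrow)).1 inferInstance x a
    obtain ⟨c, rfl⟩ := h3 b
    have hc : ParSh.twistMap I E ≫ cokernel.π (ParSh.twistSub I E).arrow = 0 := by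
      rw [← imageSubobject_arrow_comp (ParSh.twistMap I E)]
      exact (Category.assoc _ _ _).trans ((congrArg _ (cokernel.condition _)).trans comp_zero)
    show CurveCoh17.stalkLin (cokernel.π (ParSh.twistSub I E).arrow) x
      (CurveCoh17.stalkLin (ParSh.twistMap I E) x c) = 0
    rw [← Snapper.stalkLin_comp', hc]
    rw [CurveCoh17.stalkLin_apply, Functor.map_zero]
    rfl
  rw [hz a, hz b]

variable (hL : CohB1.IsAmple L)

/-- The system of coherent modules of `L`. -/
abbrev S₀ (hL : CohB1.IsAmple L) : ShStab28.Sys X.Modules := ShStab28.sys k X L hL.1 (ShStab28.positive k hL)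

include k in
theorem ok_cokernel {W E : X.Modules} (f : W ⟶ E) (hW : Coh.IsCoh W) (hE : Coh.IsCoh E) :
    Coh.IsCoh (cokernel f) := by
  haveI : IsNoetherian X := CohFound.isNoetherian_of_isProper (X ↘ Spec (CommRingCat.of k))
  exact M1.isCoh_cokernel hW.1 hE f

include k in
theorem ok_kernel {W E : X.Modules} (f : W ⟶ E) (hW : Coh.IsCoh W) (hE : Coh.IsCoh E) :
    Coh.IsCoh (kernel f) := by
  haveI : IsNoetherian X := CohFound.isNoetherian_of_isProper (X ↘ Spec (CommRingCat.of k))
  exact M1.isCoh_kernel hW hE.1 f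

include k in
theorem isCoh_pullback {W E : X.Modules} (ι : W ⟶ E) (hW : Coh.IsCoh W) (hE : Coh.IsCoh E) (P : Subobject E)
    (hP : Coh.IsCoh (P : X.Modules)) : Coh.IsCoh ((Subobject.pullback ι).obj P : X.Modules) :=
  CohFound.isCoh_of_iso (pullbackKerIso ι P).symm (ok_kernel (k := k) _ hW (ok_cokernel (k := k) _ hP hE))

section Structure

variable {E : X.Modules} (hE : Coh.IsCoh E) (𝓔 : ParSh.Str E)
  (hcoh : ∀ j, Coh.IsCoh ((𝓔.pieceX j : Subobject E) : X.Modules))

local notation "𝐇" => ShStab28.hilb k X L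

theorem pieceX_zero : 𝓔.pieceX 0 = ⊤ := (𝓔.pieceX_castSucc 0).trans 𝓔.piece_zero

include hL hE hcoh in
theorem hilb_piece_add (j : Fin (𝓔.l + 2)) :
    𝐇 (𝓔.pieceX j : X.Modules) + 𝐇 (cokernel (𝓔.pieceX j).arrow) = 𝐇 E :=
  ((S₀ (k := k) hL).hp_mono (𝓔.pieceX j).arrow (hcoh j) hE).symm

include hL hE hcoh in
theorem hilb_quot_zero : 𝐇 (cokernel (𝓔.pieceX 0).arrow) = 0 := by
  have hz : IsZero (cokernel (𝓔.pieceX 0).arrow) := by
    rw [pieceX_zero]
    exact isZero_cokernel_of_epi _
  exact (S₀ (k := k) hL).hp_zero hz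

theorem hilb_of {PX : Fin (𝓔.l + 2) → Polynomial ℚ}
    (hPX : ∀ j, ShStab.IsHilbPoly k X L ((𝓔.pieceX j : Subobject E) : X.Modules) (PX j)) :
    PX = fun j => 𝐇 (𝓔.pieceX j : X.Modules) :=
  funext fun j => (ShStab28.hilb_eq k (hPX j)).symm

theorem hilb_of_quot {H : Fin (𝓔.l + 2) → Polynomial ℚ}
    (hH : ∀ j, ShStab.IsHilbPoly k X L (cokernel (𝓔.pieceX j).arrow) (H j)) :
    H = fun j => 𝐇 (cokernel (𝓔.pieceX j).arrow) :=
  funext fun j => (ShStab28.hilb_eq k (hH j)).symm

include hL hE hcoh in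
theorem parPoly_hilb :
    W4swparbununimod.parPoly 𝓔 (fun j => 𝐇 (𝓔.pieceX j : X.Modules)) = W4swparbununimod.rpoly (𝐇 E) -
      ∑ j : Fin (𝓔.l + 1), Polynomial.C (𝓔.wtX j.succ - 𝓔.wtX j.castSucc) *
        W4swparbununimod.rpoly (𝐇 (cokernel (𝓔.pieceX j.succ).arrow)) :=
  parPoly_eq_quot 𝓔 _ (fun j => 𝐇 (cokernel (𝓔.pieceX j).arrow)) _ (hilb_piece_add hL hE 𝓔 hcoh)
    (hilb_quot_zero hL hE 𝓔 hcoh)

include hL hE hcoh in
theorem coeff_parPoly_hilb (n : ℕ) :
    (W4swparbununimod.parPoly 𝓔 (fun j => 𝐇 (𝓔.pieceX j : X.Modules))).coeff n = ((𝐇 E).coeff n : ℝ) -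
      ∑ j : Fin (𝓔.l + 1), (𝓔.wtX j.succ - 𝓔.wtX j.castSucc) *
        ((𝐇 (cokernel (𝓔.pieceX j.succ).arrow)).coeff n : ℝ) :=
  coeff_parPoly 𝓔 _ (fun j => 𝐇 (cokernel (𝓔.pieceX j).arrow)) _ (hilb_piece_add hL hE 𝓔 hcoh)
    (hilb_quot_zero hL hE 𝓔 hcoh) n

include hL hcoh in
theorem parHilb_eq (m : ℕ) :
    𝓔.parHilb k X L m =
      (W4swparbununimod.parPoly 𝓔 (fun j => 𝐇 (𝓔.pieceX j : X.Modules))).eval (m : ℝ) := by
  have key : ∀ j, ((Curv2.euler k X (ShStab.twist X L (𝓔.pieceX j : X.Modules) m) : ℤ) : ℝ) =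
      (W4swparbununimod.rpoly (𝐇 (𝓔.pieceX j : X.Modules))).eval (m : ℝ) := fun j => by
    rw [eval_rpoly, ← ShStab28.hilb_spec k hL.1 (hcoh j) m]
    exact (Rat.cast_intCast _).symm
  unfold ParSh.Str.parHilb ParSh.Str.parSum W4swparbununimod.parPoly
  beta_reduce
  rw [← 𝓔.pieceX_last, key, Polynomial.eval_add, Polynomial.eval_finset_sum]
  refine congrArg₂ (· + ·) rfl (Finset.sum_congr rfl fun j _ => ?_)
  rw [Polynomial.eval_mul, Polynomial.eval_C, Polynomial.eval_sub, ← 𝓔.pieceX_castSucc, key, key]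

variable {d : ℕ} {I : X.IdealSheafData}
  (hbot : 𝓔.bot = ParSh.twistSub I E)
  (hsupp : topologicalKrullDim ↥(CohB1.support E ∩ (I.support : Set X)) < (d : WithBot ℕ∞))

include hbot hsupp hE hcoh k in
/-- The quotients by the pieces are small. -/
theorem quot_small (j : Fin (𝓔.l + 2)) :
    topologicalKrullDim (CohB1.support (cokernel (𝓔.pieceX j).arrow)) < (d : WithBot ℕ∞) := by
  obtain ⟨p, hp⟩ := exists_epi_cokernel (𝓔.bot_le_pieceX j)
  haveI := hp
  refine lt_of_le_of_lt ?_ hsupp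
  have hsub : CohB1.support (cokernel (𝓔.pieceX j).arrow) ⊆ CohB1.support E ∩ (I.support : Set X) := by
    refine Set.subset_inter (CohFound.support_subset_of_epi (cokernel.π _)) ?_
    refine (CohFound.support_subset_of_epi p).trans ?_
    rw [hbot]
    exact support_cokernel_twistSub_subset I E
  exact Topology.IsInducing.topologicalKrullDim_le (Topology.IsEmbedding.inclusion hsub).isInducing

end Structure

section Quot

variable {d : ℕ} {G : X.Modules}

local notation "𝐇" => ShStab28.hilb k X L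

include hL in
theorem coeff_eq_zero_of_small (hG : Coh.IsCoh G)
    (hs : topologicalKrullDim (CohB1.support G) < (d : WithBot ℕ∞)) {n : ℕ} (hn : d ≤ n) : (𝐇 G).coeff n = 0 := by
  by_cases h0 : IsZero G
  · rw [show 𝐇 G = 0 from (S₀ (k := k) hL).hp_zero h0, Polynomial.coeff_zero]
  · obtain ⟨e, he⟩ := ShStab28.exists_dim_supp k hG h0
    obtain ⟨h1, -⟩ := ShStab28.positive k hL G hG e he
    rw [he] at hs
    exact Polynomial.coeff_eq_zero_of_natDegree_lt (by rw [h1]; exact lt_of_lt_of_le (by exact_mod_cast hs) hn)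

include hL in
theorem natDegree_le_of_small (hG : Coh.IsCoh G)
    (hs : topologicalKrullDim (CohB1.support G) < (d : WithBot ℕ∞)) : (𝐇 G).natDegree ≤ d - 1 := by
  by_cases h0 : IsZero G
  · rw [show 𝐇 G = 0 from (S₀ (k := k) hL).hp_zero h0, Polynomial.natDegree_zero]
    exact Nat.zero_le _
  · obtain ⟨e, he⟩ := ShStab28.exists_dim_supp k hG h0
    obtain ⟨h1, -⟩ := ShStab28.positive k hL G hG e he
    rw [he] at hs
    have : e < d := by exact_mod_cast hs
    omega

include hL in
theorem coeff_nonneg (hG : Coh.IsCoh G) {D : ℕ} (hD : (𝐇 G).natDegree ≤ D) : 0 ≤ (𝐇 G).coeff D := by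
  rcases hD.lt_or_eq with h | h
  · rw [Polynomial.coeff_eq_zero_of_natDegree_lt h]
  · rw [← h]
    exact (S₀ (k := k) hL).lc_nonneg hG

include hL in
/-- A submodule has smaller degree and top coefficient. -/
theorem hilb_sub {G' : X.Modules} (c : G' ⟶ G) [Mono c] (hG' : Coh.IsCoh G') (hG : Coh.IsCoh G) {D : ℕ}
    (hD : (𝐇 G).natDegree ≤ D) : (𝐇 G').natDegree ≤ D ∧ 0 ≤ (𝐇 G').coeff D ∧ (𝐇 G').coeff D ≤ (𝐇 G).coeff D := by
  have h1 := (S₀ (k := k) hL).deg_mono c hG' hG
  have hd1 : (𝐇 G').natDegree ≤ D := h1.1.trans hD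
  have hd2 : (𝐇 (cokernel c)).natDegree ≤ D := h1.2.trans hD
  refine ⟨hd1, coeff_nonneg hL hG' hd1, ?_⟩
  rw [show 𝐇 G = 𝐇 G' + 𝐇 (cokernel c) from (S₀ (k := k) hL).hp_mono c hG' hG, Polynomial.coeff_add]
  exact le_add_of_nonneg_right (coeff_nonneg hL (ok_cokernel (k := k) c hG' hG) hd2)

include hL in
/-- A quotient module has smaller top coefficient. -/
theorem hilb_quot {G' : X.Modules} (p : G ⟶ G') [Epi p] (hG : Coh.IsCoh G) (hG' : Coh.IsCoh G') {D : ℕ}
    (hD : (𝐇 G).natDegree ≤ D) : (𝐇 G').coeff D ≤ (𝐇 G).coeff D := by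
  have h1 := (S₀ (k := k) hL).deg_epi p hG hG'
  rw [show 𝐇 G = 𝐇 (kernel p) + 𝐇 G' from (S₀ (k := k) hL).hp_epi p hG hG', Polynomial.coeff_add]
  exact le_add_of_nonneg_left (coeff_nonneg hL (ok_kernel (k := k) p hG hG') (h1.1.trans hD))

include hL in
/-- A submodule has eventually smaller values. -/
theorem eval_hilb_sub {G' : X.Modules} (c : G' ⟶ G) [Mono c] (hG' : Coh.IsCoh G') (hG : Coh.IsCoh G) :
    ∃ M : ℕ, ∀ m : ℕ, M ≤ m → (𝐇 G').eval (m : ℚ) ≤ (𝐇 G).eval (m : ℚ) := by
  have h := ShStab28.polyLE_add_right (A := 𝐇 G')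
    ((S₀ (k := k) hL).lc_nonneg (ok_cokernel (k := k) c hG' hG))
  rw [show 𝐇 G = 𝐇 G' + 𝐇 (cokernel c) from (S₀ (k := k) hL).hp_mono c hG' hG]
  exact h

end Quot

end Groth.Agent.ParHilb12
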